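import Mathlib.LinearAlgebra.Contraction
import Mathlib.RingTheory.Flat.Basic
import Mathlib.RingTheory.Coalgebra.Basic
import Mathlib.Algebra.Module.FinitePresentation

/-!
Transposes of coactions with values in a flat module.
-/

universe u

open TensorProduct

namespace Groth.Agent.ComodFlat

variable {R : Type u} [CommRing R]

theorem dualTensorHom_rTensor {P P' N : Type u} [AddCommGroup P] [Module R P] [AddCommGroup P']
    [Module R P'] [AddCommGroup N] [Module R N] (h : P' →ₗ[R] P)
    (z : Module.Dual R P ⊗[R] N) (x : P') :
    dualTensorHom R P' N (h.dualMap.rTensor N z) x = dualTensorHom R P N z (h x) := by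
  induction z using TensorProduct.induction_on with
  | zero => simp
  | add p q hp hq => simp only [map_add, LinearMap.add_apply, hp, hq]
  | tmul f a => simp

/-- For a finitely presented module and a flat one, maps are dual tensors. -/
theorem dualTensorHom_bijective_of_flat (P N : Type u) [AddCommGroup P] [Module R P] [AddCommGroup N]
    [Module R N] [Module.FinitePresentation R P] [Module.Flat R N] :
    Function.Bijective (dualTensorHom R P N) := by
  obtain ⟨n, π, hπ⟩ := Module.Finite.exists_fin' R P
  have : Module.Finite R (LinearMap.ker π) :=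
    Module.Finite.iff_fg.2 (Module.FinitePresentation.fg_ker π hπ)
  obtain ⟨m, σ, hσ⟩ := Module.Finite.exists_fin' R (LinearMap.ker π)
  let g : (Fin m → R) →ₗ[R] Fin n → R := (LinearMap.ker π).subtype ∘ₗ σ
  have hg : π ∘ₗ g = 0 := LinearMap.ext fun x => (σ x).2
  have hex : Function.Exact π.dualMap g.dualMap := by
    intro f
    refine ⟨fun hf => ?_, ?_⟩
    · have hk : LinearMap.ker π ≤ LinearMap.ker f := fun y hy => by
        obtain ⟨x, hx⟩ := hσ ⟨y, hy⟩
        have := LinearMap.congr_fun hf x
        simpa [g, hx] using this
      refine ⟨(LinearMap.ker π).liftQ f hk ∘ₗ (π.quotKerEquivOfSurjective hπ).symm.toLinearMap,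
        LinearMap.ext fun y => ?_⟩
      simp only [LinearMap.dualMap_apply, LinearMap.comp_apply, LinearEquiv.coe_coe]
      rw [← LinearMap.quotKerEquivOfSurjective_apply_mk π hπ y, LinearEquiv.symm_apply_apply,
        Submodule.liftQ_apply]
    · rintro ⟨f', rfl⟩
      ext x
      simp [g]
  have hexN := Module.Flat.rTensor_exact N hex
  have hinjN : Function.Injective (π.dualMap.rTensor N) :=
    Module.Flat.rTensor_preserves_injective_linearMap _ (LinearMap.dualMap_injective_of_surjective hπ)
  refine ⟨fun z w h => hinjN ((dualTensorHom_bijective).1 ?_), fun φ => ?_⟩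
  · refine LinearMap.ext fun x => ?_
    rw [dualTensorHom_rTensor, dualTensorHom_rTensor, h]
  · obtain ⟨z, hz⟩ := (dualTensorHom_bijective (R := R) (M := Fin n → R) (N := N)).2 (φ ∘ₗ π)
    have hz0 : g.dualMap.rTensor N z = 0 :=
      (dualTensorHom_bijective (R := R) (M := Fin m → R) (N := N)).1 (by
        refine LinearMap.ext fun x => ?_
        rw [dualTensorHom_rTensor, hz, map_zero, LinearMap.zero_apply, LinearMap.comp_apply,
          show π (g x) = 0 from LinearMap.congr_fun hg x, map_zero])
    obtain ⟨w, rfl⟩ := (hexN z).1 hz0
    refine ⟨w, LinearMap.ext fun p => ?_⟩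
    obtain ⟨x, rfl⟩ := hπ p
    rw [← dualTensorHom_rTensor, hz]
    rfl

variable {A : Type u} [AddCommGroup A] [Module R A] {P : Type u} [AddCommGroup P] [Module R P]

/-- Coassociativity of a coaction for a given comultiplication. -/
def IsCoassoc (c : A →ₗ[R] A ⊗[R] A) (δ : P →ₗ[R] P ⊗[R] A) : Prop :=
  ∀ x, TensorProduct.assoc R P A A (δ.rTensor A (δ x)) = c.lTensor P (δ x)

/-- The contraction of a coaction with a functional. -/
noncomputable def contractF (δ : P →ₗ[R] P ⊗[R] A) : Module.Dual R P →ₗ[R] P →ₗ[R] A where
  toFun f := (TensorProduct.lid R A).toLinearMap ∘ₗ f.rTensor A ∘ₗ δ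
  map_add' f g := by ext x; simp [LinearMap.rTensor_add]
  map_smul' r f := by ext x; simp [LinearMap.rTensor_smul]

theorem contractF_apply (δ : P →ₗ[R] P ⊗[R] A) (f : Module.Dual R P) (x : P) :
    contractF δ f x = TensorProduct.lid R A (f.rTensor A (δ x)) := rfl

variable [Module.FinitePresentation R P] [Module.Flat R A]

/-- The transpose of a coaction. -/
noncomputable def transposeCoact (δ : P →ₗ[R] P ⊗[R] A) :
    Module.Dual R P →ₗ[R] Module.Dual R P ⊗[R] A :=
  (LinearEquiv.ofBijective _ (dualTensorHom_bijective_of_flat P A)).symm.toLinearMap ∘ₗ contractF δ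

theorem dualTensorHom_transposeCoact (δ : P →ₗ[R] P ⊗[R] A) (f : Module.Dual R P) (x : P) :
    dualTensorHom R P A (transposeCoact δ f) x = contractF δ f x :=
  LinearMap.congr_fun
    ((LinearEquiv.ofBijective _ (dualTensorHom_bijective_of_flat P A)).apply_symm_apply
      (contractF δ f)) x

theorem isCoassoc_transposeCoact {c : A →ₗ[R] A ⊗[R] A} {δ : P →ₗ[R] P ⊗[R] A}
    (h : IsCoassoc c δ) :
    IsCoassoc ((TensorProduct.comm R A A).toLinearMap ∘ₗ c) (transposeCoact δ) := by
  intro f
  apply (dualTensorHom_bijective_of_flat P (A ⊗[R] A)).1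
  ext x : 1
  have e1 : ∀ z : Module.Dual R P ⊗[R] A,
      dualTensorHom R P (A ⊗[R] A)
          (TensorProduct.assoc R _ A A ((transposeCoact δ).rTensor A z)) x =
        TensorProduct.comm R A A ((dualTensorHom R P A z).rTensor A (δ x)) := by
    intro z
    induction z using TensorProduct.induction_on with
    | zero => simp
    | add p q hp hq => simp only [map_add, LinearMap.add_apply, LinearMap.rTensor_add, hp, hq]
    | tmul g a =>
      have h1 : ∀ w : Module.Dual R P ⊗[R] A,
          dualTensorHom R P (A ⊗[R] A) (TensorProduct.assoc R _ A A (w ⊗ₜ[R] a)) x =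
            dualTensorHom R P A w x ⊗ₜ[R] a := by
        intro w
        induction w using TensorProduct.induction_on with
        | zero => simp
        | add p q hp hq => simp only [TensorProduct.add_tmul, map_add, LinearMap.add_apply, hp, hq]
        | tmul q b => simp [TensorProduct.smul_tmul']
      rw [LinearMap.rTensor_tmul, h1, dualTensorHom_transposeCoact, contractF_apply]
      generalize δ x = y
      induction y using TensorProduct.induction_on with
      | zero => simp
      | add p q hp hq => simp only [map_add, TensorProduct.add_tmul, hp, hq]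
      | tmul p b => simp [TensorProduct.smul_tmul', TensorProduct.tmul_smul]
  have e2 : ∀ z : Module.Dual R P ⊗[R] A,
      dualTensorHom R P (A ⊗[R] A)
          (((TensorProduct.comm R A A).toLinearMap ∘ₗ c).lTensor _ z) x =
        TensorProduct.comm R A A (c (dualTensorHom R P A z x)) := by
    intro z
    induction z using TensorProduct.induction_on with
    | zero => simp
    | add p q hp hq => simp only [map_add, LinearMap.add_apply, hp, hq]
    | tmul g a => simp
  rw [e1, e2]
  congr 1
  rw [show dualTensorHom R P A (transposeCoact δ f) = contractF δ f from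
    LinearMap.ext (dualTensorHom_transposeCoact δ f), contractF_apply]
  have e3 : ∀ y : P ⊗[R] A, (contractF δ f).rTensor A y =
      TensorProduct.lid R (A ⊗[R] A)
        (f.rTensor (A ⊗[R] A) (TensorProduct.assoc R P A A (δ.rTensor A y))) := by
    intro y
    induction y using TensorProduct.induction_on with
    | zero => simp
    | add p q hp hq => simp only [map_add, hp, hq]
    | tmul p b =>
      simp only [LinearMap.rTensor_tmul, contractF_apply]
      generalize δ p = w
      induction w using TensorProduct.induction_on with
      | zero => simp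
      | add u v hu hv => simp only [map_add, TensorProduct.add_tmul, hu, hv]
      | tmul q a => simp [TensorProduct.smul_tmul']
  rw [e3, h x]
  generalize δ x = y
  induction y using TensorProduct.induction_on with
  | zero => simp
  | add p q hp hq => simp only [map_add, hp, hq]
  | tmul p b => simp

theorem counit_transposeCoact {e : A →ₗ[R] R} {δ : P →ₗ[R] P ⊗[R] A}
    (h : ∀ x, TensorProduct.rid R P (e.lTensor P (δ x)) = x) (f : Module.Dual R P) :
    TensorProduct.rid R _ (e.lTensor _ (transposeCoact δ f)) = f := by
  ext x
  have e1 : ∀ z : Module.Dual R P ⊗[R] A,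
      (TensorProduct.rid R _ (e.lTensor _ z) : Module.Dual R P) x = e (dualTensorHom R P A z x) := by
    intro z
    induction z using TensorProduct.induction_on with
    | zero => simp
    | add p q hp hq => simp only [map_add, LinearMap.add_apply, hp, hq]
    | tmul g a => simp [mul_comm]
  rw [e1, dualTensorHom_transposeCoact, contractF_apply]
  conv_rhs => rw [← h x]
  generalize δ x = y
  induction y using TensorProduct.induction_on with
  | zero => simp
  | add p q hp hq => simp only [map_add, hp, hq]
  | tmul p b => simp [mul_comm]

end Groth.Agent.ComodFlat
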