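import Groth.Agent.S0563
import Mathlib.RingTheory.Flat.Equalizer
import Mathlib.RingTheory.Flat.Localization
import Mathlib.RingTheory.Flat.EquationalCriterion
import Mathlib.RingTheory.RegularLocalRing.Defs
import Mathlib.LinearAlgebra.Dual.Lemmas

/-!
Duals of finite modules over regular rings of dimension at most two are projective.
-/

universe u

open CategoryTheory TensorProduct

namespace Groth.Agent.ComodFlat

/-- A kernel of a map from a projective module has smaller projective dimension. -/
theorem projDimLT_ker {R : Type u} [CommRing R] {P Q : Type u} [AddCommGroup P] [Module R P]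
    [AddCommGroup Q] [Module R Q] [Module.Projective R P] (f : P →ₗ[R] Q)
    (hf : Function.Surjective f) (n : ℕ)
    [HasProjectiveDimensionLT (ModuleCat.of R Q) (n + 2)] :
    HasProjectiveDimensionLT (ModuleCat.of R (LinearMap.ker f)) (n + 1) := by
  have hS := LinearMap.shortExact_shortComplexKer hf
  have : Projective f.shortComplexKer.X₂ := by
    show Projective (ModuleCat.of R P)
    infer_instance
  exact (hS.hasProjectiveDimensionLT_X₃_iff n this).1
    (show HasProjectiveDimensionLT (ModuleCat.of R Q) (n + 2) by assumption)

/-- Over a regular local ring of dimension at most two, kernels of maps between projectives are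
projective. -/
theorem projective_ker_local {R : Type u} [CommRing R] [IsRegularLocalRing R]
    (hdim : ringKrullDim R ≤ 2) {P Q : Type u} [AddCommGroup P] [Module R P] [AddCommGroup Q]
    [Module R Q] [Module.Projective R P] [Module.Projective R Q] (f : P →ₗ[R] Q) :
    Module.Projective R (LinearMap.ker f) := by
  have h1 := (isRegularLocalRing_iff R).mp inferInstance
  set d := (IsLocalRing.maximalIdeal R).spanFinrank
  have hd : d ≤ 2 := by
    rw [← h1] at hdim
    exact_mod_cast hdim
  let I := LinearMap.range f
  have h3 : HasProjectiveDimensionLT (ModuleCat.of R (Q ⧸ I)) (1 + 2) := by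
    have := Groth.Agent.S0563.result R d h1.symm (Q ⧸ I)
    exact hasProjectiveDimensionLT_of_ge _ (d + 1) _ (by omega)
  have h2 := projDimLT_ker I.mkQ (Submodule.mkQ_surjective I) 1
  have hI : HasProjectiveDimensionLT (ModuleCat.of R I) (0 + 2) := by
    have e : LinearMap.ker I.mkQ ≃ₗ[R] I := LinearEquiv.ofEq _ _ (Submodule.ker_mkQ I)
    exact hasProjectiveDimensionLT_of_iso e.toModuleIso (1 + 1)
  have h0 := projDimLT_ker f.rangeRestrict f.surjective_rangeRestrict 0
  have e : LinearMap.ker f.rangeRestrict ≃ₗ[R] LinearMap.ker f :=
    LinearEquiv.ofEq _ _ f.ker_rangeRestrict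
  have : HasProjectiveDimensionLT (ModuleCat.of R (LinearMap.ker f)) 1 :=
    hasProjectiveDimensionLT_of_iso e.toModuleIso 1
  exact (IsProjective.iff_projective _).2 (projective_iff_hasProjectiveDimensionLT_one.2 this)

/-- Over a regular ring of dimension at most two, kernels of maps between finite projectives are
projective. -/
theorem projective_ker {R : Type u} [CommRing R] [IsRegularRing R]
    (hdim : ringKrullDim R ≤ 2) {P Q : Type u} [AddCommGroup P] [Module R P] [AddCommGroup Q]
    [Module R Q] [Module.Projective R P] [Module.Finite R P] [Module.Projective R Q] (f : P →ₗ[R] Q) :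
    Module.Projective R (LinearMap.ker f) := by
  have : IsNoetherian R P := isNoetherian_of_isNoetherianRing_of_finite R P
  have : Module.FinitePresentation R (LinearMap.ker f) := Module.finitePresentation_of_finite R _
  have : Module.Flat R (LinearMap.ker f) := by
    refine Module.flat_of_localized_maximal _ fun p _ => ?_
    let S := Localization.AtPrime p
    have hS : ringKrullDim S ≤ 2 := by
      rw [IsLocalization.AtPrime.ringKrullDim_eq_height p S]
      exact le_trans (Ideal.height_le_ringKrullDim_of_ne_top (Ideal.IsMaximal.ne_top inferInstance)) hdim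
    let g : S ⊗[R] P →ₗ[S] S ⊗[R] Q := AlgebraTensorModule.lTensor S S f
    have := projective_ker_local hS g
    have : Module.Projective S (S ⊗[R] LinearMap.ker f) :=
      Module.Projective.of_equiv (LinearMap.tensorKerEquiv S S f).symm
    have : Module.Flat R (S ⊗[R] LinearMap.ker f) := Module.Flat.trans R S _
    exact Module.Flat.of_linearEquiv
      (IsLocalizedModule.linearEquiv p.primeCompl
        (LocalizedModule.mkLinearMap p.primeCompl (LinearMap.ker f))
        (TensorProduct.mk R S (LinearMap.ker f) 1))
  exact Module.Flat.projective_of_finitePresentation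

/-- The dual of a finite module over a regular ring of dimension at most two is projective. -/
theorem projective_dual {R : Type u} [CommRing R] [IsRegularRing R]
    (hdim : ringKrullDim R ≤ 2) (M : Type u) [AddCommGroup M] [Module R M] [Module.Finite R M] :
    Module.Projective R (Module.Dual R M) := by
  obtain ⟨n, π, hπ⟩ := Module.Finite.exists_fin' R M
  obtain ⟨m, σ, hσ⟩ := Module.Finite.exists_fin' R (LinearMap.ker π)
  let g : (Fin m → R) →ₗ[R] Fin n → R := (LinearMap.ker π).subtype ∘ₗ σ
  have : Module.Projective R (Module.Dual R (Fin n → R)) :=
    Module.Projective.of_equiv (Pi.basisFun R (Fin n)).toDualEquiv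
  have : Module.Projective R (Module.Dual R (Fin m → R)) :=
    Module.Projective.of_equiv (Pi.basisFun R (Fin m)).toDualEquiv
  have : Module.Finite R (Module.Dual R (Fin n → R)) :=
    Module.Finite.equiv (Pi.basisFun R (Fin n)).toDualEquiv
  have := projective_ker hdim g.dualMap
  have hex : LinearMap.range π.dualMap = LinearMap.ker g.dualMap := by
    rw [LinearMap.range_dualMap_eq_dualAnnihilator_ker_of_surjective π hπ,
      LinearMap.ker_dualMap_eq_dualAnnihilator_range]
    congr 1
    rw [LinearMap.range_comp, LinearMap.range_eq_top.2 hσ, Submodule.map_top,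
      Submodule.range_subtype]
  exact Module.Projective.of_equiv
    ((LinearEquiv.ofInjective π.dualMap (LinearMap.dualMap_injective_of_surjective hπ)).trans
      (LinearEquiv.ofEq _ _ hex)).symm

end Groth.Agent.ComodFlat
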