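import Groth.Agent.ComodFlat.DualComod
import Groth.Agent.ComodFlat.RegularDual
import Groth.Agent.S3032
import Mathlib.RingTheory.HopfAlgebra.GroupLike
import Mathlib.RingTheory.Bialgebra.Basic
import Mathlib.LinearAlgebra.Matrix.Determinant.Basic

/-!
Every finite subset of a flat Hopf algebra over a regular ring of dimension at most two lies in the
algebra of a matrix corepresentation.
-/

universe u

open TensorProduct

namespace Groth.Agent.ComodFlat

variable {R : Type u} [CommRing R] {A : Type u} [AddCommGroup A] [Module R A]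

/-- A coaction on a direct summand extends trivially to the ambient module. -/
noncomputable def extCoact {M F : Type u} [AddCommGroup M] [Module R M] [AddCommGroup F] [Module R F]
    (ρ : M →ₗ[R] M ⊗[R] A) (s : M →ₗ[R] F) (π : F →ₗ[R] M) (one : A) : F →ₗ[R] F ⊗[R] A :=
  s.rTensor A ∘ₗ ρ ∘ₗ π + (TensorProduct.mk R F A).flip one ∘ₗ (LinearMap.id - s ∘ₗ π)

theorem extCoact_section {M F : Type u} [AddCommGroup M] [Module R M] [AddCommGroup F] [Module R F]
    (ρ : M →ₗ[R] M ⊗[R] A) {s : M →ₗ[R] F} {π : F →ₗ[R] M} (h : ∀ m, π (s m) = m) (one : A) (m : M) :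
    extCoact ρ s π one (s m) = s.rTensor A (ρ m) := by
  simp [extCoact, h]

theorem isCoassoc_extCoact {M F : Type u} [AddCommGroup M] [Module R M] [AddCommGroup F] [Module R F]
    {c : A →ₗ[R] A ⊗[R] A} {ρ : M →ₗ[R] M ⊗[R] A} (hρ : IsCoassoc c ρ) {s : M →ₗ[R] F}
    {π : F →ₗ[R] M} (h : ∀ m, π (s m) = m) {one : A} (hone : c one = one ⊗ₜ one) :
    IsCoassoc c (extCoact ρ s π one) := by
  intro v
  have hker : π (v - s (π v)) = 0 := by rw [map_sub, h, sub_self]
  have hv : extCoact ρ s π one v = s.rTensor A (ρ (π v)) + (v - s (π v)) ⊗ₜ[R] one := by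
    simp [extCoact, TensorProduct.sub_tmul]
  have hw : extCoact ρ s π one (v - s (π v)) = (v - s (π v)) ⊗ₜ[R] one := by
    simp [extCoact, hker, TensorProduct.sub_tmul]
  have hs : ∀ z : M ⊗[R] A, TensorProduct.assoc R F A A
      ((extCoact ρ s π one).rTensor A (s.rTensor A z)) =
      s.rTensor (A ⊗[R] A) (TensorProduct.assoc R M A A (ρ.rTensor A z)) := by
    intro z
    induction z using TensorProduct.induction_on with
    | zero => simp
    | add p q hp hq => simp only [map_add, hp, hq]
    | tmul m a =>
      simp only [LinearMap.rTensor_tmul, extCoact_section ρ h]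
      generalize ρ m = w
      induction w using TensorProduct.induction_on with
      | zero => simp
      | add p q hp hq => simp only [map_add, TensorProduct.add_tmul, hp, hq]
      | tmul q b => simp
  rw [hv, map_add, map_add, map_add, hs, hρ (π v), LinearMap.rTensor_tmul, hw,
    TensorProduct.assoc_tmul, LinearMap.lTensor_tmul, hone]
  congr 1
  rw [← LinearMap.comp_apply, LinearMap.rTensor_comp_lTensor, ← LinearMap.lTensor_comp_rTensor,
    LinearMap.comp_apply]

theorem counit_extCoact {M F : Type u} [AddCommGroup M] [Module R M] [AddCommGroup F] [Module R F]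
    {e : A →ₗ[R] R} {ρ : M →ₗ[R] M ⊗[R] A}
    (hρ : ∀ x, TensorProduct.rid R M (e.lTensor M (ρ x)) = x) (s : M →ₗ[R] F) (π : F →ₗ[R] M)
    {one : A} (hone : e one = 1) (v : F) :
    TensorProduct.rid R F (e.lTensor F (extCoact ρ s π one v)) = v := by
  have hs : ∀ z : M ⊗[R] A, TensorProduct.rid R F (e.lTensor F (s.rTensor A z)) =
      s (TensorProduct.rid R M (e.lTensor M z)) := by
    intro z
    induction z using TensorProduct.induction_on with
    | zero => simp
    | add p q hp hq => simp only [map_add, hp, hq]
    | tmul m a => simp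
  simp only [extCoact, LinearMap.add_apply, LinearMap.comp_apply, map_add, hs, hρ]
  simp [hone]

end Groth.Agent.ComodFlat

namespace Groth.Agent.ComodFlat

variable {R : Type u} [CommRing R] {A : Type u} [CommRing A] [HopfAlgebra R A]

theorem matrix_of_coact {d : ℕ} (δ : (Fin d → R) →ₗ[R] (Fin d → R) ⊗[R] A)
    (hδ : IsCoassoc (Coalgebra.comul (R := R) (A := A)) δ)
    (hε : ∀ v, TensorProduct.rid R _ ((Coalgebra.counit (R := R) (A := A)).lTensor _ (δ v)) = v) :
    ∃ a : Matrix (Fin d) (Fin d) A,
      (∀ i j, CoalgebraStruct.comul (R := R) (a i j) = ∑ l, a i l ⊗ₜ[R] a l j) ∧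
      (∀ i j, CoalgebraStruct.counit (R := R) (a i j) = if i = j then 1 else 0) ∧
      (∃ u : A, u * a.det = 1) ∧
      ∀ (φ : Module.Dual R (Fin d → R)) (v : Fin d → R),
        contractF δ φ v ∈ Submodule.span R (Set.range fun p : Fin d × Fin d => a p.1 p.2) := by
  classical
  let e := fun j : Fin d => (Pi.single j (1 : R) : Fin d → R)
  let a : Matrix (Fin d) (Fin d) A := fun i j => contractF δ (LinearMap.proj i) (e j)
  have hexp : ∀ z : (Fin d → R) ⊗[R] A,
      ∑ i, e i ⊗ₜ[R] TensorProduct.lid R A ((LinearMap.proj i : _ →ₗ[R] R).rTensor A z) = z := by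
    intro z
    induction z using TensorProduct.induction_on with
    | zero => simp
    | add p q hp hq => simp only [map_add, TensorProduct.tmul_add, Finset.sum_add_distrib, hp, hq]
    | tmul p b =>
      conv_rhs => rw [pi_eq_sum_univ' p, TensorProduct.sum_tmul]
      refine Finset.sum_congr rfl fun i _ => ?_
      simp only [LinearMap.rTensor_tmul, TensorProduct.lid_tmul, LinearMap.proj_apply,
        TensorProduct.tmul_smul, ← TensorProduct.smul_tmul']
      rfl
  have hδe : ∀ j, δ (e j) = ∑ i, e i ⊗ₜ[R] a i j := fun j => (hexp (δ (e j))).symm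
  have hcoef : ∀ (N : Type u) [AddCommGroup N] [Module R N] (z : Fin d → N) (i : Fin d),
      TensorProduct.lid R N ((LinearMap.proj i : _ →ₗ[R] R).rTensor N (∑ l, e l ⊗ₜ[R] z l)) = z i := by
    intro N _ _ z i
    simp [e, Pi.single_apply, ite_smul]
  have hcm : ∀ i j, CoalgebraStruct.comul (R := R) (a i j) = ∑ l, a i l ⊗ₜ[R] a l j := by
    intro i j
    have h := hδ (e j)
    simp only [hδe, map_sum, LinearMap.rTensor_tmul, LinearMap.lTensor_tmul, TensorProduct.sum_tmul,
      TensorProduct.assoc_tmul] at h
    rw [Finset.sum_comm] at h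
    simp only [← TensorProduct.tmul_sum] at h
    have h2 := congrArg
      (fun w => TensorProduct.lid R _ ((LinearMap.proj i : _ →ₗ[R] R).rTensor (A ⊗[R] A) w)) h
    simp only [hcoef] at h2
    exact h2.symm
  have hct : ∀ i j, CoalgebraStruct.counit (R := R) (a i j) = if i = j then 1 else 0 := by
    intro i j
    have h := congrFun (hε (e j)) i
    simp only [hδe, map_sum, LinearMap.lTensor_tmul, TensorProduct.rid_tmul, Finset.sum_apply,
      Pi.smul_apply, smul_eq_mul] at h
    simp only [e, Pi.single_apply, mul_ite, mul_one, mul_zero, Finset.sum_ite_eq,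
      Finset.mem_univ, if_true] at h
    exact h
  have hg : IsGroupLikeElem R a.det := by
    refine ⟨?_, ?_⟩
    · have h1 : (Bialgebra.counitAlgHom R A).mapMatrix a = 1 := by
        ext i j
        rw [AlgHom.mapMatrix_apply, Matrix.map_apply, Matrix.one_apply]
        exact hct i j
      have := AlgHom.map_det (Bialgebra.counitAlgHom R A) a
      rw [h1, Matrix.det_one] at this
      exact this
    · let l : A →ₐ[R] A ⊗[R] A := Algebra.TensorProduct.includeLeft
      let r : A →ₐ[R] A ⊗[R] A := Algebra.TensorProduct.includeRight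
      have h1 : (Bialgebra.comulAlgHom R A).mapMatrix a = l.mapMatrix a * r.mapMatrix a := by
        ext i j
        simp only [AlgHom.mapMatrix_apply, Matrix.map_apply, Matrix.mul_apply,
          Bialgebra.comulAlgHom_apply, hcm]
        simp [l, r]
      have := AlgHom.map_det (Bialgebra.comulAlgHom R A) a
      rw [h1, Matrix.det_mul, ← AlgHom.map_det, ← AlgHom.map_det] at this
      simpa [l, r] using this
  refine ⟨a, hcm, hct, hg.isUnit.exists_left_inv, fun φ v => ?_⟩
  have h : contractF δ φ v = ∑ j, v j • ∑ i, φ (e i) • a i j := by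
    conv_lhs => rw [pi_eq_sum_univ' v]
    rw [map_sum]
    refine Finset.sum_congr rfl fun j _ => ?_
    rw [map_smul]
    congr 1
    show contractF δ φ (e j) = _
    rw [contractF_apply, hδe]
    simp
  rw [h]
  exact Submodule.sum_mem _ fun j _ => Submodule.smul_mem _ _ <| Submodule.sum_mem _ fun i _ =>
    Submodule.smul_mem _ _ <| Submodule.subset_span ⟨(i, j), rfl⟩

theorem exists_matrix_corep [IsRegularRing R] (hdim : ringKrullDim R ≤ 2) [Module.Flat R A]
    (F : Finset A) :
    ∃ (d : ℕ) (a : Matrix (Fin d) (Fin d) A),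
      (∀ i j, CoalgebraStruct.comul (R := R) (a i j) = ∑ l, a i l ⊗ₜ[R] a l j) ∧
      (∀ i j, CoalgebraStruct.counit (R := R) (a i j) = if i = j then 1 else 0) ∧
      (∃ u : A, u * a.det = 1) ∧
      (↑F : Set A) ⊆ Submodule.span R (Set.range fun p : Fin d × Fin d => a p.1 p.2) := by
  let Δ := Coalgebra.comul (R := R) (A := A)
  let ε := Coalgebra.counit (R := R) (A := A)
  letI : HopfRep.Comod R A A :=
    { coact := Δ
      coassoc := Coalgebra.coassoc
      counit_comp := Coalgebra.lTensor_counit_comp_comul }
  obtain ⟨W, hW, hFW, hWfg⟩ := Groth.Agent.S3032.result R A A (Submodule.span R (F : Set A))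
    (Submodule.fg_span F.finite_toSet)
  have : Module.Finite R W := Module.Finite.iff_fg.2 hWfg
  have : Module.FinitePresentation R W := Module.finitePresentation_of_finite R _
  have hinj : Function.Injective (W.subtype.rTensor A) :=
    Module.Flat.rTensor_preserves_injective_linearMap _ W.injective_subtype
  let ρ : W →ₗ[R] W ⊗[R] A := LinearMap.codRestrictOfInjective (Δ ∘ₗ W.subtype)
    (W.subtype.rTensor A) hinj fun x => hW x x.2
  have hρspec : ∀ x : W, W.subtype.rTensor A (ρ x) = Δ x := fun x =>
    LinearMap.codRestrictOfInjective_comp_apply _ _ hinj (fun x : W => hW x x.2) x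
  have hinj2 : Function.Injective (W.subtype.rTensor (A ⊗[R] A)) :=
    Module.Flat.rTensor_preserves_injective_linearMap _ W.injective_subtype
  have hρ : IsCoassoc Δ ρ := by
    intro x
    apply hinj2
    have e1 : ∀ z : W ⊗[R] A, W.subtype.rTensor (A ⊗[R] A) (TensorProduct.assoc R W A A (ρ.rTensor A z)) =
        TensorProduct.assoc R A A A (Δ.rTensor A (W.subtype.rTensor A z)) := by
      intro z
      induction z using TensorProduct.induction_on with
      | zero => simp
      | add p q hp hq => simp only [map_add, hp, hq]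
      | tmul p b =>
        simp only [LinearMap.rTensor_tmul, Submodule.subtype_apply, ← hρspec]
        generalize ρ p = w
        induction w using TensorProduct.induction_on with
        | zero => simp
        | add u v hu hv => simp only [map_add, TensorProduct.add_tmul, hu, hv]
        | tmul q c => simp
    have e2 : ∀ z : W ⊗[R] A, W.subtype.rTensor (A ⊗[R] A) (Δ.lTensor W z) =
        Δ.lTensor A (W.subtype.rTensor A z) := by
      intro z
      rw [← LinearMap.comp_apply, LinearMap.rTensor_comp_lTensor, ← LinearMap.lTensor_comp_rTensor,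
        LinearMap.comp_apply]
    rw [e1, e2, hρspec]
    exact LinearMap.congr_fun Coalgebra.coassoc (x : A)
  have hρε : ∀ x, TensorProduct.rid R W (ε.lTensor W (ρ x)) = x := by
    intro x
    apply Subtype.ext
    have e1 : ∀ z : W ⊗[R] A, ((TensorProduct.rid R W (ε.lTensor W z) : W) : A) =
        TensorProduct.rid R A (ε.lTensor A (W.subtype.rTensor A z)) := by
      intro z
      induction z using TensorProduct.induction_on with
      | zero => simp
      | add p q hp hq => simp only [map_add, Submodule.coe_add, hp, hq]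
      | tmul p b => simp
    rw [e1, hρspec, Coalgebra.lTensor_counit_comul]
    simp
  -- dual twice
  have : Module.Finite R (Module.Dual R W) := by
    obtain ⟨n, π, hπ⟩ := Module.Finite.exists_fin' R W
    have : IsNoetherian R (Module.Dual R (Fin n → R)) :=
      isNoetherian_of_linearEquiv (Pi.basisFun R (Fin n)).toDualEquiv
    exact Module.Finite.of_injective π.dualMap (LinearMap.dualMap_injective_of_surjective hπ)
  have : Module.FinitePresentation R (Module.Dual R W) := Module.finitePresentation_of_finite R _
  let ρ₁ := transposeCoact ρ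
  let ρ₂ := transposeCoact ρ₁
  have hρ₂ : IsCoassoc Δ ρ₂ := by
    have h := isCoassoc_transposeCoact (isCoassoc_transposeCoact hρ)
    rwa [← LinearMap.comp_assoc, show (TensorProduct.comm R A A).toLinearMap ∘ₗ
      (TensorProduct.comm R A A).toLinearMap = LinearMap.id from
        TensorProduct.ext' fun p q => rfl, LinearMap.id_comp] at h
  have hρ₂ε : ∀ x, TensorProduct.rid R _ (ε.lTensor _ (ρ₂ x)) = x :=
    counit_transposeCoact (counit_transposeCoact hρε)
  -- projectivity
  have hproj := projective_dual hdim (Module.Dual R W)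
  have : Module.Finite R (Module.Dual R (Module.Dual R W)) := by
    obtain ⟨n, π, hπ⟩ := Module.Finite.exists_fin' R (Module.Dual R W)
    have : IsNoetherian R (Module.Dual R (Fin n → R)) :=
      isNoetherian_of_linearEquiv (Pi.basisFun R (Fin n)).toDualEquiv
    exact Module.Finite.of_injective π.dualMap (LinearMap.dualMap_injective_of_surjective hπ)
  obtain ⟨d, π, hπ⟩ := Module.Finite.exists_fin' R (Module.Dual R (Module.Dual R W))
  obtain ⟨s, hs⟩ := Module.projective_lifting_property π LinearMap.id hπ
  have hs' : ∀ m, π (s m) = m := LinearMap.congr_fun hs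
  obtain ⟨a, hcm, hct, hu, hspan⟩ := matrix_of_coact (extCoact ρ₂ s π (1 : A))
    (isCoassoc_extCoact hρ₂ hs' Bialgebra.comul_one)
    (counit_extCoact hρ₂ε s π Bialgebra.counit_one)
  refine ⟨d, a, hcm, hct, hu, fun x hx => ?_⟩
  let xW : W := ⟨x, hFW (Submodule.subset_span hx)⟩
  let φ : Module.Dual R (Module.Dual R (Module.Dual R W)) :=
    Module.Dual.eval R (Module.Dual R W) (ε ∘ₗ W.subtype)
  have key : contractF (extCoact ρ₂ s π (1 : A)) (φ ∘ₗ π) (s (Module.Dual.eval R W xW)) = x := by
    rw [contractF_apply, extCoact_section ρ₂ hs', ← LinearMap.rTensor_comp_apply,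
      LinearMap.comp_assoc, hs, LinearMap.comp_id]
    have e1 : ∀ z : Module.Dual R (Module.Dual R W) ⊗[R] A,
        TensorProduct.lid R A (φ.rTensor A z) = dualTensorHom R (Module.Dual R W) A z (ε ∘ₗ W.subtype) := by
      intro z
      induction z using TensorProduct.induction_on with
      | zero => simp
      | add p q hp hq => simp only [map_add, LinearMap.add_apply, hp, hq]
      | tmul p b => simp [φ]
    rw [e1, dualTensorHom_transposeCoact, contractF_apply]
    have e2 : ∀ z : Module.Dual R W ⊗[R] A,
        TensorProduct.lid R A ((Module.Dual.eval R W xW).rTensor A z) =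
          dualTensorHom R W A z xW := by
      intro z
      induction z using TensorProduct.induction_on with
      | zero => simp
      | add p q hp hq => simp only [map_add, LinearMap.add_apply, hp, hq]
      | tmul p b => simp
    rw [e2, dualTensorHom_transposeCoact, contractF_apply, LinearMap.rTensor_comp_apply, hρspec,
      Coalgebra.rTensor_counit_comul]
    simp [xW]
  rw [← key]
  exact hspan _ _

end Groth.Agent.ComodFlat
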