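import Groth.Agent.ComodFlat.Matrix

/-!
Finite comodules over a projective coalgebra on a regular base of dimension at most two are
quotients of projective ones.
-/

universe u

open TensorProduct

namespace Groth.Agent.ComodFlat

variable {R : Type u} [CommRing R] {C : Type u} [AddCommGroup C] [Module R C] [Coalgebra R C]

/-- A coassociative and counital coaction. -/
structure IsCoact {V : Type u} [AddCommGroup V] [Module R V] (ρ : V →ₗ[R] V ⊗[R] C) : Prop where
  coassoc : IsCoassoc (Coalgebra.comul (R := R) (A := C)) ρ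
  counit : ∀ x, TensorProduct.rid R V ((Coalgebra.counit (R := R) (A := C)).lTensor V (ρ x)) = x

theorem isCoact_of_comod (V : Type u) [AddCommGroup V] [Module R V] [HopfRep.Comod R C V] :
    IsCoact (HopfRep.Comod.coact (k := R) (A := C) (V := V)) where
  coassoc x := LinearMap.congr_fun (HopfRep.Comod.coassoc (k := R) (A := C) (V := V)) x
  counit x := by
    have := LinearMap.congr_fun (HopfRep.Comod.counit_comp (k := R) (A := C) (V := V)) x
    simp only [LinearMap.comp_apply] at this
    exact (congrArg _ this).trans (by simp)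

theorem exists_restrict [Module.Flat R C] {V : Type u} [AddCommGroup V] [Module R V]
    {ρ : V →ₗ[R] V ⊗[R] C} (hρ : IsCoact ρ) (W : Submodule R V)
    (hW : ∀ x ∈ W, ρ x ∈ LinearMap.range (W.subtype.rTensor C)) :
    ∃ ρ' : W →ₗ[R] W ⊗[R] C, IsCoact ρ' ∧ ∀ x : W, W.subtype.rTensor C (ρ' x) = ρ x := by
  let Δ := Coalgebra.comul (R := R) (A := C)
  let ε := Coalgebra.counit (R := R) (A := C)
  have hinj : Function.Injective (W.subtype.rTensor C) :=
    Module.Flat.rTensor_preserves_injective_linearMap _ W.injective_subtype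
  let ρ' : W →ₗ[R] W ⊗[R] C := LinearMap.codRestrictOfInjective (ρ ∘ₗ W.subtype)
    (W.subtype.rTensor C) hinj fun x => hW x x.2
  have hspec : ∀ x : W, W.subtype.rTensor C (ρ' x) = ρ x := fun x =>
    LinearMap.codRestrictOfInjective_comp_apply _ _ hinj (fun x : W => hW x x.2) x
  have hinj2 : Function.Injective (W.subtype.rTensor (C ⊗[R] C)) :=
    Module.Flat.rTensor_preserves_injective_linearMap _ W.injective_subtype
  refine ⟨ρ', ⟨fun x => ?_, fun x => ?_⟩, hspec⟩
  · apply hinj2
    have e1 : ∀ z : W ⊗[R] C, W.subtype.rTensor (C ⊗[R] C) (TensorProduct.assoc R W C C (ρ'.rTensor C z)) =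
        TensorProduct.assoc R V C C (ρ.rTensor C (W.subtype.rTensor C z)) := by
      intro z
      induction z using TensorProduct.induction_on with
      | zero => simp
      | add p q hp hq => simp only [map_add, hp, hq]
      | tmul p b =>
        simp only [LinearMap.rTensor_tmul, Submodule.subtype_apply, ← hspec]
        generalize ρ' p = w
        induction w using TensorProduct.induction_on with
        | zero => simp
        | add u v hu hv => simp only [map_add, TensorProduct.add_tmul, hu, hv]
        | tmul q c => simp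
    have e2 : ∀ z : W ⊗[R] C, W.subtype.rTensor (C ⊗[R] C) (Δ.lTensor W z) =
        Δ.lTensor V (W.subtype.rTensor C z) := by
      intro z
      rw [← LinearMap.comp_apply, LinearMap.rTensor_comp_lTensor, ← LinearMap.lTensor_comp_rTensor,
        LinearMap.comp_apply]
    rw [e1, e2, hspec]
    exact hρ.coassoc x
  · apply Subtype.ext
    have e1 : ∀ z : W ⊗[R] C, ((TensorProduct.rid R W (ε.lTensor W z) : W) : V) =
        TensorProduct.rid R V (ε.lTensor V (W.subtype.rTensor C z)) := by
      intro z
      induction z using TensorProduct.induction_on with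
      | zero => simp
      | add p q hp hq => simp only [map_add, Submodule.coe_add, hp, hq]
      | tmul p b => simp
    rw [e1, hspec]
    exact hρ.counit x

/-- The cofree coaction. -/
noncomputable def cofree (R : Type u) [CommRing R] (C : Type u) [AddCommGroup C] [Module R C]
    [Coalgebra R C] (P : Type u) [AddCommGroup P] [Module R P] :
    P ⊗[R] C →ₗ[R] (P ⊗[R] C) ⊗[R] C :=
  (TensorProduct.assoc R P C C).symm.toLinearMap ∘ₗ (Coalgebra.comul (R := R) (A := C)).lTensor P

theorem isCoact_cofree (P : Type u) [AddCommGroup P] [Module R P] : IsCoact (cofree R C P) := by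
  let Δ := Coalgebra.comul (R := R) (A := C)
  let ε := Coalgebra.counit (R := R) (A := C)
  constructor
  · intro z
    induction z using TensorProduct.induction_on with
    | zero => simp
    | add p q hp hq => simp only [map_add, hp, hq]
    | tmul p c =>
      let Φ : C ⊗[R] (C ⊗[R] C) →ₗ[R] (P ⊗[R] C) ⊗[R] (C ⊗[R] C) :=
        (TensorProduct.assoc R P C (C ⊗[R] C)).symm.toLinearMap ∘ₗ TensorProduct.mk R P _ p
      have e1 : TensorProduct.assoc R (P ⊗[R] C) C C ((cofree R C P).rTensor C (cofree R C P (p ⊗ₜ[R] c))) =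
          Φ (TensorProduct.assoc R C C C (Δ.rTensor C (Δ c))) := by
        show TensorProduct.assoc R (P ⊗[R] C) C C ((cofree R C P).rTensor C
          ((TensorProduct.assoc R P C C).symm (p ⊗ₜ Δ c))) = _
        generalize Δ c = w
        induction w using TensorProduct.induction_on with
        | zero => simp
        | add u v hu hv => simp only [map_add, TensorProduct.tmul_add, hu, hv]
        | tmul a b =>
          simp only [TensorProduct.assoc_symm_tmul, LinearMap.rTensor_tmul, cofree,
            LinearMap.comp_apply, LinearMap.lTensor_tmul, LinearEquiv.coe_coe]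
          show TensorProduct.assoc R (P ⊗[R] C) C C
            ((TensorProduct.assoc R P C C).symm (p ⊗ₜ Δ a) ⊗ₜ[R] b) = _
          generalize Δ a = w'
          induction w' using TensorProduct.induction_on with
          | zero => simp
          | add u v hu hv => simp only [map_add, TensorProduct.tmul_add, TensorProduct.add_tmul, hu, hv]
          | tmul x y => simp [Φ]
      have e2 : Δ.lTensor (P ⊗[R] C) (cofree R C P (p ⊗ₜ[R] c)) = Φ (Δ.lTensor C (Δ c)) := by
        show Δ.lTensor (P ⊗[R] C) ((TensorProduct.assoc R P C C).symm (p ⊗ₜ Δ c)) = _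
        generalize Δ c = w
        induction w using TensorProduct.induction_on with
        | zero => simp
        | add u v hu hv => simp only [map_add, TensorProduct.tmul_add, hu, hv]
        | tmul a b =>
          simp [Φ]
      rw [e1, e2]
      exact congrArg Φ (LinearMap.congr_fun Coalgebra.coassoc c)
  · intro z
    induction z using TensorProduct.induction_on with
    | zero => simp
    | add p q hp hq => simp only [map_add, hp, hq]
    | tmul p c =>
      have e : ∀ w : C ⊗[R] C, TensorProduct.rid R (P ⊗[R] C) (ε.lTensor (P ⊗[R] C)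
          ((TensorProduct.assoc R P C C).symm (p ⊗ₜ w))) =
          p ⊗ₜ TensorProduct.rid R C (ε.lTensor C w) := by
        intro w
        induction w using TensorProduct.induction_on with
        | zero => simp
        | add u v hu hv => simp only [map_add, TensorProduct.tmul_add, hu, hv]
        | tmul a b => simp [TensorProduct.tmul_smul]
      refine (e (Δ c)).trans ?_
      simp [ε, Δ]

/-- The preimage of a comodule in a cofree one. -/
theorem exists_cover [Module.Projective R C] {F P : Type u} [AddCommGroup F] [Module R F]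
    [AddCommGroup P] [Module R P] [Module.Projective R P] {ρ : F →ₗ[R] F ⊗[R] C} (hρ : IsCoact ρ)
    (π : P →ₗ[R] F) (hπ : Function.Surjective π) :
    ∃ (E : Submodule R (P ⊗[R] C)) (q : (P ⊗[R] C) →ₗ[R] F),
      (∀ x ∈ E, cofree R C P x ∈ LinearMap.range (E.subtype.rTensor C)) ∧
      (∀ x ∈ E, ρ (q x) = q.rTensor C (cofree R C P x)) ∧
      (∀ y, ∃ x ∈ E, q x = y) ∧
      (Module.Projective R (LinearMap.ker π) → Module.Projective R E) := by
  let Δ := Coalgebra.comul (R := R) (A := C)
  let ε := Coalgebra.counit (R := R) (A := C)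
  let p : P ⊗[R] C →ₗ[R] F ⊗[R] C := π.rTensor C
  let I := LinearMap.range ρ
  let θ := I.mkQ ∘ₗ p
  let q : P ⊗[R] C →ₗ[R] F := (TensorProduct.rid R F).toLinearMap ∘ₗ ε.lTensor F ∘ₗ p
  have hqρ : ∀ x, x ∈ LinearMap.ker θ → ρ (q x) = p x := by
    intro x hx
    obtain ⟨y, hy⟩ : p x ∈ I := (Submodule.Quotient.mk_eq_zero _).1 hx
    show ρ (TensorProduct.rid R F (ε.lTensor F (p x))) = p x
    rw [← hy, hρ.counit]
  refine ⟨LinearMap.ker θ, q, fun x hx => ?_, fun x hx => ?_, fun y => ?_, fun hK => ?_⟩
  · refine (Module.Flat.rTensor_exact C (LinearMap.exact_subtype_ker_map θ) _).1 ?_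
    have e : ∀ z : P ⊗[R] C, θ.rTensor C (cofree R C P z) =
        I.mkQ.rTensor C ((TensorProduct.assoc R F C C).symm (Δ.lTensor F (p z))) := by
      intro z
      induction z using TensorProduct.induction_on with
      | zero => simp
      | add u v hu hv => simp only [map_add, hu, hv]
      | tmul a c =>
        show θ.rTensor C ((TensorProduct.assoc R P C C).symm (a ⊗ₜ Δ c)) =
          I.mkQ.rTensor C ((TensorProduct.assoc R F C C).symm (π a ⊗ₜ Δ c))
        generalize Δ c = w
        induction w using TensorProduct.induction_on with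
        | zero => simp
        | add u v hu hv => simp only [map_add, TensorProduct.tmul_add, hu, hv]
        | tmul u v => simp [θ, p]
    rw [e, ← hqρ x hx, ← hρ.coassoc, LinearEquiv.symm_apply_apply, ← LinearMap.rTensor_comp_apply,
      show I.mkQ ∘ₗ ρ = 0 from
        LinearMap.ext fun y => (Submodule.Quotient.mk_eq_zero _).2 (LinearMap.mem_range_self ρ y),
      LinearMap.rTensor_zero, LinearMap.zero_apply]
  · rw [hqρ x hx]
    clear hx
    induction x using TensorProduct.induction_on with
    | zero => simp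
    | add u v hu hv => simp only [map_add, hu, hv]
    | tmul a c =>
      show π a ⊗ₜ c = q.rTensor C ((TensorProduct.assoc R P C C).symm (a ⊗ₜ Δ c))
      have e : ∀ w : C ⊗[R] C, q.rTensor C ((TensorProduct.assoc R P C C).symm (a ⊗ₜ w)) =
          π a ⊗ₜ TensorProduct.lid R C (ε.rTensor C w) := by
        intro w
        induction w using TensorProduct.induction_on with
        | zero => simp
        | add u v hu hv => simp only [map_add, TensorProduct.tmul_add, hu, hv]
        | tmul u v => simp [q, p, TensorProduct.tmul_smul, TensorProduct.smul_tmul']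
      rw [e]
      simp [ε, Δ]
  · obtain ⟨x, hx⟩ := LinearMap.rTensor_surjective C hπ (ρ y)
    refine ⟨x, (Submodule.Quotient.mk_eq_zero _).2 ⟨y, hx.symm⟩, ?_⟩
    show TensorProduct.rid R F (ε.lTensor F (p x)) = y
    rw [show p x = ρ y from hx, hρ.counit]
  · obtain ⟨σ, hσ⟩ := Module.projective_lifting_property p (ρ ∘ₗ q)
      (LinearMap.rTensor_surjective C hπ)
    let K := (LinearMap.ker π) ⊗[R] C
    have hex := Module.Flat.rTensor_exact C (LinearMap.exact_subtype_ker_map π)
    have hk : ∀ z : LinearMap.ker θ, (z : P ⊗[R] C) - σ z ∈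
        LinearMap.range ((LinearMap.ker π).subtype.rTensor C) := fun z => by
      refine (hex _).1 ?_
      show p _ = 0
      rw [map_sub, ← LinearMap.comp_apply p σ, hσ, LinearMap.comp_apply, hqρ _ z.2, sub_self]
    have hj : Function.Injective ((LinearMap.ker π).subtype.rTensor C) :=
      Module.Flat.rTensor_preserves_injective_linearMap _ (Submodule.injective_subtype _)
    let fK : LinearMap.ker θ →ₗ[R] K := LinearMap.codRestrictOfInjective
      ((LinearMap.id - σ) ∘ₗ (LinearMap.ker θ).subtype) _ hj hk
    let i : LinearMap.ker θ →ₗ[R] K × (P ⊗[R] C) := fK.prod (LinearMap.ker θ).subtype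
    have hr : ∀ w : K × (P ⊗[R] C),
        (LinearMap.ker π).subtype.rTensor C w.1 + σ w.2 ∈ LinearMap.ker θ := fun w => by
      rw [LinearMap.mem_ker]
      refine (Submodule.Quotient.mk_eq_zero _).2 ⟨q w.2, ?_⟩
      rw [map_add, ← LinearMap.comp_apply p σ, hσ]
      have : p ((LinearMap.ker π).subtype.rTensor C w.1) = 0 := hex.apply_apply_eq_zero _
      rw [this, zero_add]
      rfl
    refine Module.Projective.of_split i
      (((((LinearMap.ker π).subtype.rTensor C).coprod σ)).codRestrict (LinearMap.ker θ) hr) ?_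
    refine LinearMap.ext fun z => Subtype.ext ?_
    show (LinearMap.ker π).subtype.rTensor C (fK z) + σ z = z
    rw [show (LinearMap.ker π).subtype.rTensor C (fK z) = (z : P ⊗[R] C) - σ z from
      LinearMap.codRestrictOfInjective_comp_apply _ _ hj hk z]
    exact sub_add_cancel _ _

/-- Functionals on a projective module separate its tensors. -/
theorem eq_zero_of_forall_contract {M : Type u} [AddCommGroup M] [Module R M] [Module.Projective R M]
    [Module.Flat R C] (z : M ⊗[R] C)
    (h : ∀ g : Module.Dual R M, TensorProduct.lid R C (g.rTensor C z) = 0) : z = 0 := by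
  classical
  obtain ⟨s, hs⟩ := Module.projective_def'.1 (show Module.Projective R M by infer_instance)
  have hinj : Function.Injective s := fun u v huv =>
    (LinearMap.congr_fun hs u).symm.trans
      ((congrArg (Finsupp.linearCombination R _root_.id) huv).trans (LinearMap.congr_fun hs v))
  apply Module.Flat.rTensor_preserves_injective_linearMap s hinj
  rw [map_zero]
  apply (TensorProduct.finsuppScalarLeft R C M).injective
  ext e
  rw [map_zero, Finsupp.zero_apply, ← h (Finsupp.lapply e ∘ₗ s)]
  rw [LinearMap.rTensor_comp_apply]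
  generalize s.rTensor C z = w
  induction w using TensorProduct.induction_on with
  | zero => simp
  | add u v hu hv => simp only [map_add, Finsupp.add_apply, hu, hv]
  | tmul u v => simp

/-- The double annihilator of a finite subcomodule of a projective comodule. -/
theorem exists_saturation [IsRegularRing R] (hdim : ringKrullDim R ≤ 2) [Module.Projective R C]
    {E : Type u} [AddCommGroup E] [Module R E] [Module.Projective R E]
    {ρ : E →ₗ[R] E ⊗[R] C} (W : Submodule R E) [Module.Finite R W]
    (hW : ∀ x ∈ W, ρ x ∈ LinearMap.range (W.subtype.rTensor C)) :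
    ∃ V : Submodule R E, W ≤ V ∧ (∀ x ∈ V, ρ x ∈ LinearMap.range (V.subtype.rTensor C)) ∧
      Module.Finite R V ∧ Module.Projective R V := by
  classical
  let V : Submodule R E := ⨅ f : {f : Module.Dual R E // W ≤ LinearMap.ker f}, LinearMap.ker f.1
  have hmem : ∀ {x}, x ∈ V ↔ ∀ f : Module.Dual R E, W ≤ LinearMap.ker f → f x = 0 := by
    simp [V, Submodule.mem_iInf]
  obtain ⟨r, hr⟩ := Module.projective_def'.1 (show Module.Projective R E by infer_instance)
  obtain ⟨S, hS⟩ := (Module.Finite.iff_fg.1 (show Module.Finite R W by infer_instance))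
  let J := S.biUnion fun w => (r w).support
  let i : E →ₗ[R] (J → R) := (LinearMap.pi fun j => Finsupp.lapply (j : E)) ∘ₗ r
  let emb : (J → R) →ₗ[R] E →₀ R := ∑ j : J, Finsupp.lsingle (j : E) ∘ₗ LinearMap.proj j
  let b : (J → R) →ₗ[R] E := Finsupp.linearCombination R _root_.id ∘ₗ emb
  have hbi : ∀ x ∈ V, b (i x) = x := by
    intro x hx
    have hsupp : ∀ e : E, e ∉ J → r x e = 0 := fun e he =>
      hmem.1 hx (Finsupp.lapply e ∘ₗ r) (by
        rw [← hS, Submodule.span_le]
        intro w hw
        by_contra h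
        exact he (Finset.mem_biUnion.2 ⟨w, hw, Finsupp.mem_support_iff.2 h⟩))
    have : emb (i x) = r x := by
      ext e
      simp only [emb, i, LinearMap.sum_apply, LinearMap.comp_apply, LinearMap.pi_apply,
        Finsupp.lapply_apply, LinearMap.proj_apply, Finsupp.lsingle_apply, Finsupp.finsetSum_apply]
      by_cases he : e ∈ J
      · rw [Finset.sum_eq_single ⟨e, he⟩]
        · simp
        · intro j _ hj
          exact Finsupp.single_eq_of_ne fun h => hj (Subtype.ext h.symm)
        · simp
      · rw [hsupp e he]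
        exact Finset.sum_eq_zero fun j _ => Finsupp.single_eq_of_ne fun h => he (h ▸ j.2)
    rw [LinearMap.comp_apply, this]
    exact LinearMap.congr_fun hr x
  have hWV : W ≤ V := fun x hx => hmem.2 fun f hf => hf hx
  let Ann : Submodule R (Module.Dual R (J → R)) := (Submodule.map i W).dualAnnihilator
  have : IsNoetherian R (Module.Dual R (J → R)) :=
    isNoetherian_of_linearEquiv (Pi.basisFun R J).toDualEquiv
  obtain ⟨T, hT⟩ := IsNoetherian.noetherian Ann
  let f : (J → R) →ₗ[R] (T → R) := LinearMap.pi fun t => (t : Module.Dual R (J → R))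
  have hker : ∀ w, w ∈ LinearMap.ker f ↔ ∀ g ∈ Ann, g w = 0 := by
    intro w
    refine ⟨fun h g hg => ?_, fun h => funext fun t => h t (hT ▸ Submodule.subset_span t.2)⟩
    rw [← hT] at hg
    induction hg using Submodule.span_induction with
    | mem t ht => exact congrFun h ⟨t, ht⟩
    | zero => simp
    | add p q _ _ hp hq => simp [hp, hq]
    | smul a p _ hp => simp [hp]
  have h1 : ∀ x ∈ V, i x ∈ LinearMap.ker f := fun x hx => (hker _).2 fun g hg =>
    hmem.1 hx (g ∘ₗ i) fun w hw => (Submodule.mem_dualAnnihilator g).1 hg _ (Submodule.mem_map_of_mem hw)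
  have h2 : ∀ w ∈ LinearMap.ker f, b w ∈ V := fun w hw => hmem.2 fun g hg =>
    (hker w).1 hw (g ∘ₗ b) ((Submodule.mem_dualAnnihilator _).2 fun y hy => by
      obtain ⟨x, hx, rfl⟩ := Submodule.mem_map.1 hy
      rw [LinearMap.comp_apply, hbi x (hWV hx)]
      exact hg hx)
  have := projective_ker hdim f
  let toK : V →ₗ[R] LinearMap.ker f :=
    (i ∘ₗ V.subtype).codRestrict _ fun x => h1 x x.2
  let ofK : LinearMap.ker f →ₗ[R] V := (b ∘ₗ (LinearMap.ker f).subtype).codRestrict _ fun w => h2 w w.2
  have hsplit : ofK ∘ₗ toK = LinearMap.id := LinearMap.ext fun x => Subtype.ext (hbi x x.2)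
  refine ⟨V, hWV, fun x hx => ?_,
    Module.Finite.of_surjective ofK fun x => ⟨toK x, LinearMap.congr_fun hsplit x⟩,
    Module.Projective.of_split toK ofK hsplit⟩
  let π' : E →ₗ[R] (T → R) × (E →₀ R) := (f ∘ₗ i).prod (r - r ∘ₗ b ∘ₗ i)
  have hVker : V = LinearMap.ker π' := by
    ext y
    refine ⟨fun hy => Prod.ext (LinearMap.mem_ker.1 (h1 y hy)) ?_, fun hy => ?_⟩
    · show r y - r (b (i y)) = 0
      rw [hbi y hy, sub_self]
    · have h3 : r y = r (b (i y)) := sub_eq_zero.1 (congrArg Prod.snd hy)
      have hr' : Function.Injective r := fun u v huv =>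
        (LinearMap.congr_fun hr u).symm.trans
          ((congrArg (Finsupp.linearCombination R _root_.id) huv).trans (LinearMap.congr_fun hr v))
      rw [hr' h3]
      exact h2 _ (congrArg Prod.fst hy)
  have hann : ∀ g : Module.Dual R E, W ≤ LinearMap.ker g →
      TensorProduct.lid R C (g.rTensor C (ρ x)) = 0 := by
    intro g hg
    refine (Module.forall_dual_apply_eq_zero_iff R _).1 fun φ => ?_
    exact hmem.1 hx (φ ∘ₗ (TensorProduct.lid R C).toLinearMap ∘ₗ g.rTensor C ∘ₗ ρ) fun w hw => by
      obtain ⟨z, hz⟩ := hW w hw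
      simp only [LinearMap.mem_ker, LinearMap.comp_apply, ← hz, ← LinearMap.rTensor_comp_apply]
      rw [show g ∘ₗ W.subtype = 0 from LinearMap.ext fun u => hg u.2]
      simp
  suffices h : π'.rTensor C (ρ x) = 0 by
    rw [hVker]
    exact (Module.Flat.rTensor_exact C (LinearMap.exact_subtype_ker_map π') _).1 h
  refine eq_zero_of_forall_contract _ fun g => ?_
  rw [← LinearMap.rTensor_comp_apply]
  refine hann (g ∘ₗ π') fun w hw => ?_
  rw [LinearMap.mem_ker, LinearMap.comp_apply,
    LinearMap.mem_ker.1 (hVker ▸ hWV hw : w ∈ LinearMap.ker π'), map_zero]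

/-- A coaction gives a comodule. -/
@[reducible] noncomputable def toComod {V : Type u} [AddCommGroup V] [Module R V]
    {ρ : V →ₗ[R] V ⊗[R] C} (h : IsCoact ρ) : HopfRep.Comod R C V where
  coact := ρ
  coassoc := LinearMap.ext h.coassoc
  counit_comp := LinearMap.ext fun x => (TensorProduct.rid R V).injective <| by
    simp only [LinearMap.comp_apply]
    exact (h.counit x).trans (by simp)

/-- A finite comodule is covered by a finite subcomodule of the cofree cover. -/
theorem exists_finite_cover [IsRegularRing R] [Module.Projective R C]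
    {F P : Type u} [AddCommGroup F] [Module R F] [Module.Finite R F]
    [AddCommGroup P] [Module R P] [Module.Projective R P] {ρ : F →ₗ[R] F ⊗[R] C} (hρ : IsCoact ρ)
    (π : P →ₗ[R] F) (hπ : Function.Surjective π) :
    ∃ (E : Type u) (_ : AddCommGroup E) (_ : Module R E) (j : E →ₗ[R] P ⊗[R] C)
      (ρE : E →ₗ[R] E ⊗[R] C) (q : E →ₗ[R] F) (W : Submodule R E), Function.Injective j ∧
      IsCoact ρE ∧ (∀ x, ρ (q x) = q.rTensor C (ρE x)) ∧
      (∀ x ∈ W, ρE x ∈ LinearMap.range (W.subtype.rTensor C)) ∧ Module.Finite R W ∧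
      Function.Surjective (q ∘ₗ W.subtype) ∧
      (Module.Projective R (LinearMap.ker π) → Module.Projective R E) := by
  classical
  obtain ⟨E, q, hsub, hcol, hsurj, hproj⟩ := exists_cover hρ π hπ
  obtain ⟨ρE, hρE, hspec⟩ := exists_restrict (isCoact_cofree P) E hsub
  obtain ⟨S, hS⟩ := (Module.Finite.fg_top : (⊤ : Submodule R F).FG)
  choose e he using fun y : F => hsurj y
  let e' : F → E := fun y => ⟨e y, (he y).1⟩
  letI := toComod hρE
  obtain ⟨W, hW, hle, hfg⟩ := Groth.Agent.S3032.result R C E
    (Submodule.span R (e' '' (S : Set F))) (Submodule.fg_span (S.finite_toSet.image e'))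
  refine ⟨E, inferInstance, inferInstance, E.subtype, ρE, q ∘ₗ E.subtype, W, E.injective_subtype, hρE, fun x => ?_, hW, Module.Finite.iff_fg.2 hfg, ?_, hproj⟩
  · rw [LinearMap.comp_apply, LinearMap.rTensor_comp_apply, hspec]
    exact hcol x x.2
  · rw [← LinearMap.range_eq_top, eq_top_iff, ← hS, Submodule.span_le]
    intro y hy
    exact ⟨⟨e' y, hle (Submodule.subset_span ⟨y, hy, rfl⟩)⟩, (he y).2⟩

/-- Every finite comodule is a quotient of a finite projective comodule. -/
theorem exists_projective_cover [IsRegularRing R] (hdim : ringKrullDim R ≤ 2) [Module.Projective R C]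
    (F : Type u) [AddCommGroup F] [Module R F] [Module.Finite R F]
    {ρ : F →ₗ[R] F ⊗[R] C} (hρ : IsCoact ρ) :
    ∃ (V : Type u) (_ : AddCommGroup V) (_ : Module R V) (ρV : V →ₗ[R] V ⊗[R] C) (φ : V →ₗ[R] F),
      IsCoact ρV ∧ Module.Finite R V ∧ Module.Projective R V ∧ Function.Surjective φ ∧
        ρ ∘ₗ φ = φ.rTensor C ∘ₗ ρV := by
  obtain ⟨n, π, hπ⟩ := Module.Finite.exists_fin' R F
  obtain ⟨E₁, _, _, j₁, ρ₁, q₁, N, hj₁, hρ₁, hcol₁, hN, _, hN1, -⟩ := exists_finite_cover hρ π hπ
  obtain ⟨ρN, hρN, hNspec⟩ := exists_restrict hρ₁ N hN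
  obtain ⟨m, π', hπ'⟩ := Module.Finite.exists_fin' R N
  obtain ⟨E₂, _, _, j₂, ρ₂, q₂, W, -, hρ₂, hcol₂, hW, _, hW1, hproj⟩ := exists_finite_cover hρN π' hπ'
  have : Module.Projective R E₂ := by
    refine hproj ?_
    let j : N →ₗ[R] (Fin n → R) ⊗[R] C := j₁ ∘ₗ N.subtype
    have hj : LinearMap.ker (j ∘ₗ π') = LinearMap.ker π' :=
      LinearMap.ker_comp_of_ker_eq_bot _ (LinearMap.ker_eq_bot.2
        (hj₁.comp N.injective_subtype))
    rw [← hj]
    exact projective_ker hdim _
  obtain ⟨V, hWV, hV, hVf, hVp⟩ := exists_saturation hdim W hW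
  obtain ⟨ρV, hρV, hVspec⟩ := exists_restrict hρ₂ V hV
  refine ⟨V, inferInstance, inferInstance, ρV, q₁ ∘ₗ N.subtype ∘ₗ q₂ ∘ₗ V.subtype, hρV, hVf, hVp,
    fun y => ?_, LinearMap.ext fun x => ?_⟩
  · obtain ⟨a, rfl⟩ := hN1 y
    obtain ⟨b, rfl⟩ := hW1 a
    exact ⟨⟨b, hWV b.2⟩, rfl⟩
  · simp only [LinearMap.comp_apply, LinearMap.rTensor_comp_apply, hVspec, hcol₁]
    rw [← hcol₂, hNspec]
    rfl

end Groth.Agent.ComodFlat
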